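import Cfsg.Agent.H861.SixT.Vec

/-!
# `3.A₆` in characteristic two has no irreducible representation of degree `12` (helper861)

* `span_vec` : an irreducible `V` is spanned by the translates by `gi i` of a family spanning a submodule of the group
  generated by `q₁, q₂, r, s`;
* `fixed_false` : no fixed vector; `indep` : the twelve translates of `u, r u`, `u` natural, are independent;
* **`no_three_two`**.
-/

set_option autoImplicit false
set_option linter.unusedSectionVars false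

namespace Cfsg.Agent.H861.SixT

open Cfsg Cfsg.Geo Equiv Cfsg.Agent.H915.LD Cfsg.Agent.H930.Six

universe u v

section abs

variable {G : Type v} [Group G] {φ : G →* Perm (Fin 6)} {q1 q2 r s t : G} {F V : Type*} [Field F] [CharP F 2]
  [AddCommGroup V] [Module F V] {ρ : G →* Module.End F V}

variable (R : Rel φ q1 q2 r s t) (hev : ∀ g, Perm.sign (φ g) = 1)
  (hker : ∀ k, φ k = 1 → ∃ c : F, c ≠ 0 ∧ ∀ v, ρ k v = c • v)
  (hirr : ∀ L : Submodule F V, (∀ g, ∀ v ∈ L, ρ g v ∈ L) → L = ⊥ ∨ L = ⊤)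
include R hev hker hirr

/-- the translates span -/
theorem span_vec {τ : Type*} (f : τ → V) (h0 : ∃ l, f l ≠ 0)
    (h1 : ∀ l, ρ q1 (f l) ∈ Submodule.span F (Set.range f)) (h2 : ∀ l, ρ q2 (f l) ∈ Submodule.span F (Set.range f))
    (hr : ∀ l, ρ r (f l) ∈ Submodule.span F (Set.range f))
    (hs : ∀ l, ρ (r * s) (f l) ∈ Submodule.span F (Set.range f)) :
    Submodule.span F (Set.range fun x : Fin 6 × τ => ρ (gi q1 q2 r t x.1) (f x.2)) = ⊤ := by
  set W := Submodule.span F (Set.range f) with hW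
  have hle : ∀ g, (∀ l, ρ g (f l) ∈ W) → W.map (ρ g) ≤ W := by
    intro g hg
    rw [Submodule.map_le_iff_le_comap, hW, Submodule.span_le]
    rintro _ ⟨l, rfl⟩
    exact hg l
  have hinv : ∀ g : G, g * g = 1 → W.map (ρ g) ≤ W → W.map (ρ g) = W := by
    intro g hg h
    apply le_antisymm h
    intro w hw
    exact ⟨ρ g w, h ⟨w, hw, rfl⟩, by rw [← rm, hg, ro]⟩
  let Y : Subgroup G :=
    { carrier := {g | W.map (ρ g) = W}
      mul_mem' := by
        intro a b ha hb
        have ha' : W.map (ρ a) = W := ha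
        have hb' : W.map (ρ b) = W := hb
        change W.map (ρ (a * b)) = W
        rw [map_mul, Module.End.mul_eq_comp, Submodule.map_comp, hb', ha']
      one_mem' := by
        change W.map (ρ 1) = W
        rw [map_one, Module.End.one_eq_id, Submodule.map_id]
      inv_mem' := by
        intro a ha
        have ha' : W.map (ρ a) = W := ha
        change W.map (ρ a⁻¹) = W
        conv_lhs => rw [← ha']
        rw [← Submodule.map_comp, ← Module.End.mul_eq_comp, ← map_mul, inv_mul_cancel, map_one, Module.End.one_eq_id,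
          Submodule.map_id] }
  have hY : ∀ g, g ∈ Y ↔ W.map (ρ g) = W := fun g => Iff.rfl
  have hkY : φ.ker ≤ Y := by
    intro k hk
    obtain ⟨c, hc, h3⟩ := hker k hk
    rw [hY]
    apply le_antisymm
    · rintro _ ⟨w, hw, rfl⟩
      rw [h3]
      exact W.smul_mem c hw
    · intro w hw
      exact ⟨c⁻¹ • w, W.smul_mem _ hw, by rw [h3, smul_smul, mul_inv_cancel₀ hc, one_smul]⟩
  have hq1 : q1 ∈ Y := hinv _ R.q11 (hle _ h1)
  have hq2 : q2 ∈ Y := hinv _ R.q22 (hle _ h2)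
  have hrY : r ∈ Y := hinv _ R.rr (hle _ hr)
  have hsY : s ∈ Y := by
    refine hinv _ R.ss ?_
    have e : s = r * (r * s) := R.s_eq
    rw [e, map_mul, Module.End.mul_eq_comp, Submodule.map_comp]
    exact (Submodule.map_mono (hle _ hs)).trans (hle _ hr)
  set L := Submodule.span F (Set.range fun x : Fin 6 × τ => ρ (gi q1 q2 r t x.1) (f x.2)) with hL
  have hWi : ∀ i, W.map (ρ (gi q1 q2 r t i)) ≤ L := by
    intro i
    rw [Submodule.map_le_iff_le_comap, hW, Submodule.span_le]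
    rintro _ ⟨l, rfl⟩
    exact Submodule.subset_span ⟨(i, l), rfl⟩
  refine (hirr L fun g v hv => ?_).resolve_left fun h => ?_
  · rw [hL] at hv
    induction hv using Submodule.span_induction with
    | mem v hv =>
      obtain ⟨⟨i, l⟩, rfl⟩ := hv
      change ρ g (ρ (gi q1 q2 r t i) (f l)) ∈ L
      set j := φ g i with hj
      set y := (gi q1 q2 r t j)⁻¹ * g * gi q1 q2 r t i with hy
      have hy5 : φ y 5 = 5 := by
        rw [hy, map_mul, map_mul, map_inv, Perm.mul_apply, Perm.mul_apply, phi_gi R, ← hj, Perm.inv_eq_iff_eq,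
          phi_gi R]
      have hyY : y ∈ Y := mem_of_fix R hev hkY hq1 hq2 hrY hsY hy5
      have e : ρ g (ρ (gi q1 q2 r t i) (f l)) = ρ (gi q1 q2 r t j) (ρ y (f l)) := by
        rw [← rm, ← rm]
        congr 2
        rw [hy]; group
      rw [e]
      refine hWi j ⟨_, ?_, rfl⟩
      have h3 : ρ y (f l) ∈ W.map (ρ y) := ⟨_, Submodule.subset_span ⟨l, rfl⟩, rfl⟩
      rwa [(hY y).1 hyY] at h3
    | zero => rw [map_zero]; exact zero_mem _
    | add x y _ _ hx hy => rw [map_add]; exact add_mem hx hy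
    | smul c x _ hx => rw [map_smul]; exact L.smul_mem _ hx
  · obtain ⟨l, hl⟩ := h0
    apply hl
    have h3 : ρ (gi q1 q2 r t 5) (f l) ∈ L := Submodule.subset_span ⟨(5, l), rfl⟩
    rw [h, Submodule.mem_bot] at h3
    have h4 : ρ (gi q1 q2 r t 5) (f l) = f l := ro ρ (f l)
    rwa [h4] at h3

variable [FiniteDimensional F V] (hdim : Module.finrank F V = 12)
include hdim

/-- no fixed vectors -/
theorem fixed_false {v : V} (hv : v ≠ 0) (h1 : ρ q1 v = v) (h2 : ρ q2 v = v) (hr : ρ r v = v)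
    (hs : ρ (r * s) v = v) : False := by
  have hm : v ∈ Submodule.span F (Set.range fun _ : Fin 1 => v) := Submodule.subset_span ⟨0, rfl⟩
  have h3 := span_vec R hev hker hirr (fun _ : Fin 1 => v) ⟨0, hv⟩ (fun _ => by rw [h1]; exact hm)
    (fun _ => by rw [h2]; exact hm) (fun _ => by rw [hr]; exact hm) (fun _ => by rw [hs]; exact hm)
  have h4 := finrank_range_le_card (R := F) (fun x : Fin 6 × Fin 1 => ρ (gi q1 q2 r t x.1) v)
  unfold Set.finrank at h4
  rw [h3, finrank_top, hdim] at h4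
  simp at h4

/-- the twelve vectors are independent -/
theorem indep {μ : F} {u : V} (h : Np ρ q1 q2 r s μ u) :
    LinearIndependent F (fun x : Fin 6 × Fin 2 => ρ (gi q1 q2 r t x.1) ((![u, ρ r u] : Fin 2 → V) x.2)) := by
  have hu : u ∈ Submodule.span F (Set.range (![u, ρ r u] : Fin 2 → V)) := Submodule.subset_span ⟨0, rfl⟩
  have hru : ρ r u ∈ Submodule.span F (Set.range (![u, ρ r u] : Fin 2 → V)) := Submodule.subset_span ⟨1, rfl⟩
  refine linearIndependent_of_top_le_span_of_card_eq_finrank (ge_of_eq ?_) ?_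
  · refine span_vec R hev hker hirr _ ⟨0, h.ne⟩ ?_ ?_ ?_ ?_
    · intro l
      fin_cases l
      · change ρ q1 u ∈ _
        rw [h.bas.a1]; exact hu
      · change ρ q1 (ρ r u) ∈ _
        rw [h.b1]; exact add_mem hru (Submodule.smul_mem _ _ hu)
    · intro l
      fin_cases l
      · change ρ q2 u ∈ _
        rw [h.bas.a2]; exact hu
      · change ρ q2 (ρ r u) ∈ _
        rw [h.b2]; exact add_mem hru hu
    · intro l
      fin_cases l
      · exact hru
      · change ρ r (ρ r u) ∈ _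
        rw [r3 R h.bas]; exact hu
    · intro l
      fin_cases l
      · change ρ (r * s) u ∈ _
        rw [h.bas.ad]; exact Submodule.smul_mem _ _ hu
      · change ρ (r * s) (ρ r u) ∈ _
        rw [d3' R h.bas]; exact Submodule.smul_mem _ _ hru
  · rw [hdim]; rfl

/-- a sum of the vectors `gi i u` is not zero -/
theorem sum_ne {μ : F} {u : V} (h : Np ρ q1 q2 r s μ u) {S : Finset (Fin 6)} (hS : S.Nonempty) :
    ∑ i ∈ S, ρ (gi q1 q2 r t i) u ≠ 0 := by
  classical
  intro h0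
  have h1 := indep R hev hker hirr hdim h
  rw [Fintype.linearIndependent_iff] at h1
  obtain ⟨i, hi⟩ := hS
  have h2 := h1 (fun x => if x.1 ∈ S ∧ x.2 = 0 then 1 else 0) (by
    rw [Fintype.sum_prod_type, ← h0, ← Finset.sum_filter_add_sum_filter_not Finset.univ (fun i => i ∈ S)]
    have e1 : ∑ x ∈ Finset.univ.filter (fun i => i ∉ S), ∑ y : Fin 2,
        (if (x, y).1 ∈ S ∧ (x, y).2 = 0 then (1 : F) else 0) •
          ρ (gi q1 q2 r t (x, y).1) ((![u, ρ r u] : Fin 2 → V) (x, y).2) = 0 := by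
      refine Finset.sum_eq_zero fun x hx => Finset.sum_eq_zero fun y _ => ?_
      rw [Finset.mem_filter] at hx
      rw [if_neg (fun h3 => hx.2 h3.1), zero_smul]
    rw [e1, add_zero, Finset.filter_mem_eq_inter, Finset.univ_inter]
    refine Finset.sum_congr rfl fun x hx => ?_
    rw [Fin.sum_univ_two, if_pos ⟨hx, rfl⟩, if_neg (fun h3 => absurd h3.2 (by simp)), one_smul, zero_smul, add_zero]
    rfl) (i, 0)
  rw [if_pos ⟨hi, rfl⟩] at h2
  exact one_ne_zero h2

theorem P2_eq (u : V) : P2 ρ q1 q2 r (ρ t u) = ∑ i ∈ ({0, 1, 2, 3} : Finset (Fin 6)), ρ (gi q1 q2 r t i) u := by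
  rw [Finset.sum_insert (by decide), Finset.sum_insert (by decide), Finset.sum_insert (by decide),
    Finset.sum_singleton]
  change _ = ρ (q1 * q2 * r * t) u + (ρ (q1 * r * t) u + (ρ (q2 * r * t) u + ρ (r * t) u))
  unfold P2
  simp only [rm]
  abel

/-- the element `t` -/
theorem bas_t {ζ : F} (hζ : ∀ v : V, ρ (t * (r * s) * t * (r * s)) v = ζ • v) (hζ3 : ζ ^ 3 = 1) {μ : F} {u : V}
    (B : Bas ρ q1 q2 r s μ u) : Bas ρ q1 q2 r s (ζ * μ ^ 2) (ρ t u) := by
  refine ⟨?_, ?_, ?_, ?_⟩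
  · have e : q1 * t = t * (q1 * q2) := by
      have h1 := R.tq1
      calc q1 * t = q1 * (q2 * q2) * t := by rw [R.q22, mul_one]
        _ = q1 * q2 * (q2 * t) := by simp only [mul_assoc]
        _ = q1 * q2 * t * q2 := by rw [← R.tq2]; simp only [mul_assoc]
        _ = t * q1 * q2 := by rw [← h1]
        _ = t * (q1 * q2) := by rw [mul_assoc]
    rw [← rm, e, rm, rm, B.a2, B.a1]
  · rw [← rm, ← R.tq2, rm, B.a2]
  · -- `D t = t · (t D t D) · D⁻¹`
    have e : r * s * t = t * ((t * (r * s) * t * (r * s)) * ((r * s) * (r * s))) := by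
      have h1 : (r * s) * ((r * s) * (r * s)) = 1 := by
        have := R.d3
        rwa [pow_succ, sq, mul_assoc] at this
      calc r * s * t = (t * t) * (r * s * t) * ((r * s) * ((r * s) * (r * s))) := by rw [R.tt, h1, mul_one, one_mul]
        _ = _ := by simp only [mul_assoc]
    rw [← rm, e, rm, rm, hζ, rm, B.ad, map_smul, map_smul, B.ad, smul_smul, map_smul, smul_smul]
    congr 1
    ring
  · rw [mul_pow, hζ3, one_mul, ← pow_mul, mul_comm, pow_mul, B.cube, one_pow]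

/-- the case `μ = ζ` -/
theorem case_eq {ζ : F} (hζ : ∀ v : V, ρ (t * (r * s) * t * (r * s)) v = ζ • v) (hζ3 : ζ ^ 3 = 1) {u : V}
    (h : Np ρ q1 q2 r s ζ u) : False := by
  have h1 := bas_t R hev hker hirr hdim hζ hζ3 h.bas
  have e1 : ζ * ζ ^ 2 = 1 := by rw [← hζ3]; ring
  obtain ⟨a, b, c, d⟩ := NN_fix R h1 e1
  refine fixed_false R hev hker hirr hdim ?_ a b c d
  rw [P2_eq R hev hker hirr hdim]
  have h2 := sum_ne R hev hker hirr hdim h (S := {4, 0, 1, 2, 3}) ⟨4, by decide⟩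
  rw [Finset.sum_insert (by decide)] at h2
  exact h2

/-- no natural module -/
theorem np_false {ζ : F} (hζ : ∀ v : V, ρ (t * (r * s) * t * (r * s)) v = ζ • v) (hζ2 : ζ ^ 2 + ζ + 1 = 0) {μ : F}
    (hμ : μ ^ 2 + μ + 1 = 0) {u : V} (h : Np ρ q1 q2 r s μ u) : False := by
  have h2 := two_F F
  have hζ3 : ζ ^ 3 = 1 := by linear_combination (ζ - 1) * hζ2
  have hμ3 : μ ^ 3 = 1 := by linear_combination (μ - 1) * hμ
  by_cases he : μ = ζ
  · subst he
    exact case_eq R hev hker hirr hdim hζ hζ3 h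
  · -- `ζ = μ ^ 2`
    have h3 : ζ = μ ^ 2 := by
      have h4 : (ζ - μ) * (ζ - μ ^ 2) = 0 := by
        linear_combination hζ2 - ζ * hμ + hμ3
      rcases mul_eq_zero.1 h4 with h5 | h5
      · exact absurd (sub_eq_zero.1 h5).symm he
      · exact sub_eq_zero.1 h5
    have h1 := bas_t R hev hker hirr hdim hζ hζ3 h.bas
    have e1 : ζ * μ ^ 2 = μ := by rw [h3]; linear_combination μ * hμ3
    rw [e1] at h1
    have h5 : P2 ρ q1 q2 r (ρ t u) ≠ 0 := by
      rw [P2_eq R hev hker hirr hdim]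
      exact sum_ne R hev hker hirr hdim h ⟨0, by decide⟩
    have h6 := np_P2 R h1 hμ h5
    rw [← h3] at h6
    exact case_eq R hev hker hirr hdim hζ hζ3 h6

/-- no eigenvector with a nontrivial eigenvalue -/
theorem bas_false {ζ : F} (hζ : ∀ v : V, ρ (t * (r * s) * t * (r * s)) v = ζ • v) (hζ2 : ζ ^ 2 + ζ + 1 = 0) {κ : F}
    (hκ : κ ^ 2 + κ + 1 = 0) {v : V} (hv : v ≠ 0) (B : Bas ρ q1 q2 r s κ v) : False := by
  have h2 := two_F F
  by_cases h0 : P2 ρ q1 q2 r v = 0
  · have h3 : P3 ρ q1 q2 r κ v = 0 := by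
      by_contra hne
      obtain ⟨a, b, c, d⟩ := P3_fix R B hκ h0
      exact fixed_false R hev hker hirr hdim hne a b c d
    exact np_false R hev hker hirr hdim hζ hζ2 hκ (np_self R B hκ hv h0 h3)
  · refine np_false R hev hker hirr hdim hζ hζ2 (μ := κ ^ 2) ?_ (np_P2 R B hκ h0)
    linear_combination (κ ^ 2 - κ + 1) * hκ

/-- **No such module.** -/
theorem abs_false {ζ : F} (hζ : ∀ v : V, ρ (t * (r * s) * t * (r * s)) v = ζ • v) (hζ2 : ζ ^ 2 + ζ + 1 = 0) :
    False := by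
  have h2 := two_F F
  have hζ3 : ζ ^ 3 = 1 := by linear_combination (ζ - 1) * hζ2
  have hadd : ∀ x : V, x + x = 0 := by
    intro x
    rw [← two_smul F x, h2, zero_smul]
  have : Nontrivial V := Module.nontrivial_of_finrank_pos (R := F) (by omega)
  -- a vector fixed by `q₁` and `q₂`
  obtain ⟨a, ha⟩ := exists_ne (0 : V)
  obtain ⟨b, hb, hb1⟩ : ∃ b : V, b ≠ 0 ∧ ρ q1 b = b := by
    by_cases h : a + ρ q1 a = 0
    · refine ⟨a, ha, ?_⟩
      have h3 := hadd a
      exact add_left_cancel (h.trans h3.symm)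
    · refine ⟨_, h, ?_⟩
      rw [map_add, ← rm, R.q11, ro, add_comm]
  obtain ⟨c, hc, hc1, hc2⟩ : ∃ c : V, c ≠ 0 ∧ ρ q1 c = c ∧ ρ q2 c = c := by
    by_cases h : b + ρ q2 b = 0
    · refine ⟨b, hb, hb1, ?_⟩
      have h3 := hadd b
      exact add_left_cancel (h.trans h3.symm)
    · refine ⟨_, h, ?_, ?_⟩
      · rw [map_add, ← rm, R.q12, rm, hb1]
      · rw [map_add, ← rm ρ q2 q2, R.q22, ro, add_comm]
  -- an eigenvector
  set D := r * s with hD
  have hD3 : ∀ x, ρ D (ρ D (ρ D x)) = x := by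
    intro x
    rw [← rm, ← rm]
    have := R.d3
    rw [pow_succ, sq, mul_assoc] at this
    rw [← hD] at this
    rw [mul_assoc, this, ro]
  have hq : ∀ x : V, ρ q1 x = x → ρ q2 x = x → ρ q1 (ρ D x) = ρ D x ∧ ρ q2 (ρ D x) = ρ D x := by
    intro x h1' h2'
    have e2 : ρ q2 (ρ D x) = ρ D x := by
      rw [← rm, ← R.dq1, rm, h1']
    refine ⟨?_, e2⟩
    have e3 : ρ q1 (ρ q2 (ρ D x)) = ρ D x := by
      rw [← rm, ← rm, ← R.dq2, rm, h2']
    rwa [e2] at e3
  obtain ⟨hc3, hc4⟩ := hq c hc1 hc2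
  obtain ⟨hc5, hc6⟩ := hq _ hc3 hc4
  have key : ∀ κ : F, κ ^ 3 = 1 → ρ q1 (c + κ ^ 2 • ρ D c + κ • ρ D (ρ D c)) = c + κ ^ 2 • ρ D c + κ • ρ D (ρ D c) ∧
      ρ q2 (c + κ ^ 2 • ρ D c + κ • ρ D (ρ D c)) = c + κ ^ 2 • ρ D c + κ • ρ D (ρ D c) ∧
      ρ D (c + κ ^ 2 • ρ D c + κ • ρ D (ρ D c)) = κ • (c + κ ^ 2 • ρ D c + κ • ρ D (ρ D c)) := by
    intro κ hκ
    refine ⟨?_, ?_, ?_⟩
    · simp only [map_add, map_smul, hc1, hc3, hc5]
    · simp only [map_add, map_smul, hc2, hc4, hc6]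
    · simp only [map_add, map_smul, hD3]
      match_scalars
      · linear_combination -hκ
      · ring
      · ring
  by_cases n1 : c + (1 : F) ^ 2 • ρ D c + (1 : F) • ρ D (ρ D c) = 0
  · by_cases n2 : c + ζ ^ 2 • ρ D c + ζ • ρ D (ρ D c) = 0
    · -- the third one is `c`
      have hz2 : (ζ ^ 2) ^ 2 + ζ ^ 2 + 1 = 0 := by linear_combination (ζ ^ 2 - ζ + 1) * hζ2
      have hz3 : (ζ ^ 2) ^ 3 = 1 := by rw [← pow_mul, mul_comm, pow_mul, hζ3, one_pow]
      obtain ⟨a1, a2, a3⟩ := key (ζ ^ 2) hz3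
      refine bas_false R hev hker hirr hdim hζ hζ2 hz2 ?_ ⟨a1, a2, a3, hz3⟩
      intro n3
      apply hc
      have h5 : c = (c + (1 : F) ^ 2 • ρ D c + (1 : F) • ρ D (ρ D c)) + (c + ζ ^ 2 • ρ D c + ζ • ρ D (ρ D c)) +
          (c + (ζ ^ 2) ^ 2 • ρ D c + ζ ^ 2 • ρ D (ρ D c)) := by
        match_scalars
        · linear_combination -h2
        · linear_combination -hζ2 - ζ * hζ3
        · linear_combination -hζ2
      rw [h5, n1, n2, n3, add_zero, add_zero]
    · obtain ⟨a1, a2, a3⟩ := key ζ hζ3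
      exact bas_false R hev hker hirr hdim hζ hζ2 hζ2 n2 ⟨a1, a2, a3, hζ3⟩
  · obtain ⟨a1, a2, a3⟩ := key 1 (one_pow 3)
    have h5 := bas_t R hev hker hirr hdim hζ hζ3 (⟨a1, a2, a3, one_pow 3⟩ : Bas ρ q1 q2 r s 1 _)
    have e5 : ζ * 1 ^ 2 = ζ := by ring
    rw [e5] at h5
    refine bas_false R hev hker hirr hdim hζ hζ2 hζ2 ?_ h5
    intro h6
    apply n1
    have h7 := congrArg (ρ t) h6
    rwa [← rm, R.tt, ro, map_zero] at h7

end abs

section final

variable {ι : Type} [Fintype ι] [DecidableEq ι] {F : Type u} [Field F] {G : Type v} [Group G]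
  {m : G →* GL ι F} {φ : G →* Perm (Fin 6)}

/-- **`3.A₆` has no faithful irreducible representation of degree `12` in characteristic two.** -/
theorem no_three_two [Finite F] [Finite G] (h : Cov m φ) [CharP F 2] (hk : Nat.card φ.ker = 3)
    (hn : Fintype.card ι = 12) : False := by
  obtain ⟨q1, q2, r, s, t, R⟩ := exists_rel h hk
  let ρ : G →* Module.End F (ι → F) :=
    (Matrix.toLinAlgEquiv' (R := F) (n := ι)).toAlgHom.toMonoidHom.comp ((Units.coeHom _).comp m)
  have hρ : ∀ g v, ρ g v = Matrix.mulVec (m g : Matrix ι ι F) v := fun _ _ => rfl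
  have hker : ∀ k, φ k = 1 → ∃ c : F, c ≠ 0 ∧ ∀ v, ρ k v = c • v := by
    intro k hk1
    obtain ⟨c, hc⟩ := h.scal hk1
    exact ⟨c, c.ne_zero, fun v => by rw [hρ, hc, Matrix.smul_mulVec, Matrix.one_mulVec]⟩
  have hirr : ∀ L : Submodule F (ι → F), (∀ g, ∀ v ∈ L, ρ g v ∈ L) → L = ⊥ ∨ L = ⊤ := by
    intro L hL
    refine h.irr.1 L ?_
    rintro _ ⟨_, ⟨g, rfl⟩, rfl⟩ _ ⟨v, hv, rfl⟩
    rw [Matrix.toLin'_apply]
    exact hL g v hv
  obtain ⟨ζ, hζ0, hζ⟩ := hker _ R.kz
  have hζ1 : ζ ≠ 1 := by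
    intro h1
    apply R.nz
    apply h.inj
    apply Units.ext
    rw [map_one, Units.val_one]
    apply Matrix.toLin'.injective
    ext1 i
    ext1
    have h2 := hζ (Pi.single i 1)
    rw [h1, one_smul, hρ] at h2
    rw [LinearMap.comp_apply, LinearMap.comp_apply, Matrix.toLin'_apply, Matrix.toLin'_one, LinearMap.id_apply]
    exact h2
  have hζ3 : ζ ^ 3 = 1 := by
    have h1 := Cov.pow_ker R.kz
    rw [hk] at h1
    have hne : Nonempty ι := h.nonempty
    obtain ⟨i⟩ := hne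
    have h3 : ∀ v : ι → F, v = ζ ^ 3 • v := by
      intro v
      have h5 : ρ ((t * (r * s) * t * (r * s)) ^ 3) v = ζ ^ 3 • v := by
        rw [pow_succ, sq, rm, rm, hζ, hζ, hζ, smul_smul, smul_smul]
        congr 1
        ring
      rw [← h5, h1, ro]
    have h4 := congrFun (h3 (Pi.single i 1)) i
    rw [Pi.smul_apply, Pi.single_eq_same, smul_eq_mul, mul_one] at h4
    exact h4.symm
  have hζ2 : ζ ^ 2 + ζ + 1 = 0 := by
    have h1 : (ζ - 1) * (ζ ^ 2 + ζ + 1) = 0 := by linear_combination hζ3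
    exact (mul_eq_zero.1 h1).resolve_left (sub_ne_zero.2 hζ1)
  refine abs_false R (fun g => ?_) hker hirr (by rw [Module.finrank_fintype_fun_eq_card, hn]) hζ hζ2
  exact Perm.mem_alternatingGroup.1 (h.sign g)

end final

end Cfsg.Agent.H861.SixT
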